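import Cfsg.Agent.Co3.B0

set_option autoImplicit false
set_option maxRecDepth 100000
set_option Elab.async false

namespace Cfsg.Co3G

open Cfsg.H6 Cfsg.H6.Co3.P

def CI : List (List ℕ × List ℕ) := [([], []), ([], [15]), ([], [1,3,9]), ([], [16]), ([12], [16]), ([26], [1,3,9]), ([27], [1,3,9]), ([14], [1,3,9]), ([23], [1,3,9]), ([2], [16]), ([31], [1,3,9]), ([26,23], [1,3,9]), ([21,8], [16]), ([12,2], [16]), ([14,12], [16]), ([26,12], [16]), ([21,18], [1,3,9]), ([27,12], [16]), ([10,12], [16]), ([27,23], [1,3,9]), ([21,18,8], [16]), ([19,27,20], [1,3,9]), ([18,27,12], [16]), ([21,18,14], [1,3,9]), ([6,27,6], [1,3,9]), ([21,18,8], [1,3,9]), ([18,27,21], [1,3,9]), ([18,26,12], [16]), ([21,28,18], [1,3,9]), ([21,29,18], [1,3,9]), ([18,29,6], [1,3,9]), ([6,27,21], [1,3,9]), ([26,21,18], [1,3,9]), ([19,26,20], [1,3,9]), ([27,21,18], [1,3,9]), ([21,10,8], [16]),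 ([20,29,6], [1,3,9]), ([6,29,6], [1,3,9]), ([21,8,2], [16]), ([20,28,6], [1,3,9]), ([21,6,8], [16]), ([6,21,8], [16]), ([12,21,18], [1,3,9]), ([21,19,8], [16]), ([18,27,6], [1,3,9]), ([8,20,12], [16]), ([12,21,8], [16]), ([21,4,8], [16]), ([6,27,21,8], [1,3,9]), ([27,8,20,12], [16]), ([21,12,21,8], [16]), ([31,8,20,12], [16]), ([8,19,4,8], [16]), ([27,12,21,18], [1,3,9]), ([18,8,20,12], [16]), ([6,29,21,8], [1,3,9]), ([29,21,18,8], [1,3,9]), ([8,29,20,12], [1,3,9]), ([12,27,21,18], [1,3,9]), ([12,6,21,8], [16]), ([6,27,12,21], [1,3,9]), ([23,8,20,12], [16]), ([8,18,4,8], [16]), ([8,28,20,12], [1,3,9]), ([21,29,18,8], [1,3,9]), ([12,21,8,2], [16]), ([8,28,4,8], [16]), ([6,29,12,21], [1,3,9]), ([29,12,21,18], [1,3,9]), ([12,21,18,8], [1,3,9]), ([21,18,14,8], [1,3,9]), ([8,20,12,2], [16]), ([8,6,4,8], [16]), ([12,28,10,12], [1,3,9]), ([18,27,12,21], [1,3,9]),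 ([14,12,21,18], [1,3,9]), ([12,21,19,8], [16]), ([18,27,21,8], [1,3,9]), ([12,21,8,31], [1,3,9]), ([18,29,12,21], [1,3,9]), ([12,27,10,12], [1,3,9]), ([27,12,21,8], [16]), ([12,29,10,12], [1,3,9]), ([8,20,12,6], [1,3,9]), ([12,21,8,27], [1,3,9]), ([21,18,4,8], [1,3,9]), ([6,8,20,12], [16]), ([27,21,18,8], [1,3,9]), ([12,21,18,8], [16]), ([12,21,8,23], [1,3,9]), ([19,8,20,12], [16]), ([12,21,6,8], [16]), ([20,12,21,8], [1,3,9]), ([12,21,8,26], [1,3,9]), ([29,8,20,12], [16]), ([12,26,21,18], [1,3,9]), ([12,21,18,14], [1,3,9]), ([10,12,21,18], [1,3,9]), ([21,8,18,27], [1,3,9]), ([21,8,29,18], [1,3,9]), ([12,26,10,12], [1,3,9]), ([21,18,10,8], [1,3,9]), ([29,12,21,8], [16]), ([12,21,10,8,6], [1,3,9]), ([8,29,4,8,6], [1,3,9]), ([8,31,29,21,12], [1,3,9]), ([12,21,18,8,27], [1,3,9]), ([20,8,18,4,8], [16]), ([20,31,8,26,6], [1,3,9]), ([26,12,21,18,8], [1,3,9]), ([8,19,4,8,6],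 [1,3,9]), ([21,12,6,21,8], [16]), ([8,31,28,21,12], [1,3,9]), ([6,8,20,12,6], [1,3,9]), ([21,12,21,6,8], [1,3,9]), ([31,8,19,4,8], [16]), ([8,25,19,8,6], [1,3,9]), ([8,27,20,18,12], [1,3,9]), ([8,20,25,12,6], [1,3,9]), ([21,12,28,10,12], [1,3,9]), ([8,20,12,28,21], [1,3,9]), ([12,21,29,8,18], [1,3,9]), ([21,8,19,4,8], [16]), ([20,8,28,4,8], [16]), ([8,29,27,4,8], [1,3,9]), ([18,12,26,10,12], [1,3,9]), ([21,8,6,4,8], [16]), ([8,20,28,18,12], [1,3,9]), ([21,19,8,26,6], [1,3,9]), ([21,12,21,8,2], [16]), ([19,12,26,10,12], [1,3,9]), ([29,12,26,10,12], [1,3,9]), ([8,20,12,29,21], [1,3,9]), ([18,12,28,10,12], [1,3,9]), ([12,21,6,8,31], [1,3,9]), ([19,8,28,20,12], [1,3,9]), ([8,29,23,21,12], [1,3,9]), ([6,29,21,10,8], [1,3,9]), ([19,12,27,10,12], [1,3,9]), ([21,8,28,4,8], [16]), ([21,8,18,4,8], [16]), ([8,20,19,12,27], [1,3,9]), ([21,12,21,18,8], [16]), ([12,21,6,8,23],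 [1,3,9]), ([12,29,21,8,6], [1,3,9]), ([12,6,27,10,12], [1,3,9]), ([18,12,29,10,12], [1,3,9]), ([18,8,20,12,6], [1,3,9]), ([29,12,27,10,12], [1,3,9]), ([8,20,31,12,6], [1,3,9]), ([8,26,20,18,12], [1,3,9]), ([8,20,29,12,20], [1,3,9]), ([27,12,26,10,12], [1,3,9]), ([21,12,27,10,12], [1,3,9]), ([27,12,21,18,8], [1,3,9]), ([12,21,8,29,8], [1,3,9]), ([27,12,27,10,12], [1,3,9]), ([31,8,6,4,8], [16]), ([27,8,28,20,12], [1,3,9]), ([20,8,29,20,12], [1,3,9]), ([12,21,4,8,6], [1,3,9]), ([8,26,10,8,18], [1,3,9]), ([8,20,12,6,27], [1,3,9]), ([23,20,12,21,8], [1,3,9]), ([18,12,27,10,12], [1,3,9]), ([20,12,29,10,12], [1,3,9]), ([12,21,18,14,8], [1,3,9]), ([12,28,21,8,6], [1,3,9]), ([20,12,26,10,12], [1,3,9]), ([8,20,28,12,20], [1,3,9]), ([8,28,4,8,6], [1,3,9]), ([12,6,26,10,12], [1,3,9]), ([12,27,21,8,6], [1,3,9]), ([23,8,20,12,6], [1,3,9]), ([29,12,21,8,27], [1,3,9]), ([20,8,6,4,8],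 [16]), ([18,8,20,12,2], [16]), ([8,28,10,8,6], [1,3,9]), ([18,29,27,21,8], [1,3,9]), ([8,29,10,8,6], [1,3,9]), ([6,29,27,21,8], [1,3,9]), ([20,8,19,4,8], [16]), ([4,8,20,12,6], [1,3,9]), ([8,19,10,8,6], [1,3,9]), ([6,27,21,4,8], [1,3,9]), ([21,8,29,10,8,6], [1,3,9]), ([6,8,29,4,8,6], [1,3,9]), ([21,8,19,4,8,6], [1,3,9]), ([29,8,19,10,8,6], [1,3,9]), ([21,8,28,4,8,6], [1,3,9]), ([19,8,19,10,8,6], [1,3,9]), ([29,8,25,19,8,6], [1,3,9])]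

def CQ : List (List ℕ × List ℕ) := [([], []), ([], [15]), ([12,21,18,8], [16]), ([21,8,28,4,8], [16]), ([12,21,8], [16]), ([21,8,6,4,8], [16]), ([29,12,21,8], [16]), ([2], [16]), ([12,21,8,2], [16]), ([21,8,18,4,8], [16]), ([], [16]), ([21,8,19,4,8], [16]), ([27,12,21,8], [16]), ([12,6,21,8], [16]), ([12,21,19,8], [16]), ([12,21,6,8], [16])]

theorem pI : allR (fun i => passB [[32, 32]] CI (wdS i)) 0 1024 = true := by decide +kernel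

theorem pQ : allR (fun i => passQ [[32, 32, 32, 32]] CQ (wdS i)) 0 1024 = true := by decide +kernel

end Cfsg.Co3G
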