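import Cfsg.Agent.Co3.B0

set_option autoImplicit false
set_option maxRecDepth 100000
set_option Elab.async false

namespace Cfsg.Co3G

open Cfsg.H6 Cfsg.H6.Co3.P

def Rt : List (List ℕ) := [[19,28,18,27], [16,20,25,21], [19,26,18,29], [19,26,18,28], [18,26,28,19], [18,27,29,19], [18,27,18,28,18], [19,27,29,18], [16,24], [18,26,28,19,26], [16,21,24,20], [21,25,20], [19,27,28,18], [18,27,28,19], [18,27,18,29,18], [16,25], [20,25,21], [18,26,29,19,27], [20,24,21], [18,26,19,29], [18,26,19,28], [26,29], [25], [19,29,18,26], [18,28,19,27], [18,27,19,28], [21,24,20], [26,28], [24], [18,26,28,19,27], [27,29], [19,26,28,18], [18,28,19,26], [18,26,29,19], [16,20,24,21], [19,27,18,29], [18,27,19,29], [18,29,19,27], [18,26,18,28,18], [19,26,29,18], [27,28], [19,27,18,28], [18,26,18,29,18], [18,26,29,19,26], [18,29,19,26], [19,28,18,26], [16,21,25,20], [19,29,18,27]]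

theorem pRt : allR (fun i => passB [[32,32,15]] (Rt.map fun w => ([], w)) (wdD i)) 0 4608 = true := by
  decide +kernel

def Ry : List (List ℕ) := [[21,25,20,29], [20,24,29,21,25], [20,24,28,21,24], [25,28], [20,25,29,21], [20,24,21,28], [18,27,19], [20,25,28,21], [15,26], [27], [20,25,20,29,20], [18,24,28,19], [20,25,21,28], [19,24,29,18], [15,19,26,18], [15,27], [20,24,20,29,20], [18,25,28,19], [19,25,28,18], [19,24,28,18], [15,18,27,19], [21,24,29,20], [20,24,21,29], [18,25,29,19], [20,24,20,28,20], [20,24,28,21,25], [19,27,18], [19,25,29,18], [20,25,21,29], [20,24,29,21,24], [20,24,28,21], [18,24,29,19], [24,29], [15,18,26,19], [15,19,27,18], [21,24,28,20], [20,24,29,21], [19,26,18], [21,25,20,28], [21,25,29,20], [21,24,20,28], [26], [25,29], [18,26,19], [24,28], [20,25,20,28,20], [21,25,28,20], [21,24,20,29]]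

theorem pRy : allR (fun i => passB [[32,32,16]] (Ry.map fun w => ([], w)) (wdD i)) 0 4608 = true := by
  decide +kernel

def Rz : List (List ℕ) := [[18,21,24,20,27,19], [18,24,27,19], [19,21,24,20,26,18], [18,20,24,21,26,19], [18,25,26,19], [21,25,20,26], [15,19,29,18], [18,20,25,21,27,19], [19,28,18], [24,26], [18,25,27,19], [25,26], [18,20,24,21,27,19], [21,24,20,26], [18,29,19], [19,29,18], [20,24,21,26], [18,21,25,20,27,19], [18,21,24,20,26,19], [15,19,28,18], [15,18,29,19], [20,24,21,27], [19,24,27,18], [19,25,26,18], [21,24,20,27], [19,21,25,20,26,18], [18,20,25,21,26,19], [19,20,24,21,27,18], [18,28,19], [15,28], [19,21,25,20,27,18], [15,18,28,19], [19,24,26,18], [28], [19,25,27,18], [29], [21,25,20,27], [25,27], [18,21,25,20,26,19], [19,20,24,21,26,18], [19,21,24,20,27,18], [19,20,25,21,26,18], [18,24,26,19], [20,25,21,27], [19,20,25,21,27,18], [24,27], [15,29], [20,25,21,26]]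

theorem pRz : allR (fun i => passB [[32,32,16,15]] (Rz.map fun w => ([], w)) (wdD i)) 0 4608 = true := by
  decide +kernel

def C1 : List (List ℕ × List ℕ) := [([], []), ([], [18]), ([23], [18]), ([27], [18]), ([29], [18]), ([27,23], [18]), ([29,23], [18]), ([19,27], [18]), ([18,27], [18]), ([29,27], [18]), ([19,29], [18]), ([18,29], [18]), ([19,27,23], [18]), ([18,27,23], [18]), ([29,27,23], [18]), ([19,29,23], [18]), ([18,29,23], [18]), ([29,19,27], [18]), ([29,18,27], [18]), ([19,29,27], [18]), ([18,29,27], [18]), ([21,29,27], [18]), ([20,29,27], [18]), ([29,19,27,23], [18]), ([29,18,27,23], [18]), ([19,29,27,23], [18]), ([18,29,27,23], [18]), ([21,29,27,23], [18]), ([20,29,27,23], [18]), ([19,29,19,27], [18]), ([21,29,19,27], [18]), ([19,29,19,27,23], [18]), ([21,29,19,27,23], [18]), ([], [20]), ([23], [20]), ([25], [20]), ([29], [20]), ([25,23], [20]), ([29,23], [20]), ([21,25], [20]), ([20,25], [20]), ([29,25], [20]), ([19,29], [20]), ([18,29], [20]), ([21,25,23], [20]), ([20,25,23],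 [20]), ([29,25,23], [20]), ([19,29,23], [20]), ([18,29,23], [20]), ([29,21,25], [20]), ([29,20,25], [20]), ([19,29,25], [20]), ([18,29,25], [20]), ([21,29,25], [20]), ([20,29,25], [20]), ([29,21,25,23], [20]), ([29,20,25,23], [20]), ([19,29,25,23], [20]), ([18,29,25,23], [20]), ([21,29,25,23], [20]), ([20,29,25,23], [20]), ([19,29,21,25], [20]), ([21,29,21,25], [20]), ([19,29,21,25,23], [20]), ([21,29,21,25,23], [20]), ([], [18,20]), ([23], [18,20]), ([25], [18,20]), ([27], [18,20]), ([25,23], [18,20]), ([27,23], [18,20]), ([21,25], [18,20]), ([20,25], [18,20]), ([27,25], [18,20]), ([19,27], [18,20]), ([18,27], [18,20]), ([21,25,23], [18,20]), ([20,25,23], [18,20]), ([27,25,23], [18,20]), ([19,27,23], [18,20]), ([18,27,23], [18,20]), ([27,21,25], [18,20]), ([27,20,25], [18,20]), ([19,27,25], [18,20]), ([18,27,25], [18,20]), ([27,21,25,23], [18,20]), ([27,20,25,23], [18,20]), ([19,27,25,23], [18,20]), ([18,27,25,23], [18,20]), ([19,27,21,25], [18,20]), ([18,27,21,25], [18,20]), ([19,27,20,25],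 [18,20]), ([18,27,20,25], [18,20]), ([19,27,21,25,23], [18,20]), ([18,27,21,25,23], [18,20]), ([19,27,20,25,23], [18,20]), ([18,27,20,25,23], [18,20]), ([], [18,21]), ([23], [18,21]), ([25], [18,21]), ([27], [18,21]), ([29], [18,21]), ([25,23], [18,21]), ([27,23], [18,21]), ([29,23], [18,21]), ([21,25], [18,21]), ([20,25], [18,21]), ([27,25], [18,21]), ([29,25], [18,21]), ([19,27], [18,21]), ([18,27], [18,21]), ([29,27], [18,21]), ([19,29], [18,21]), ([18,29], [18,21]), ([21,25,23], [18,21]), ([20,25,23], [18,21]), ([27,25,23], [18,21]), ([29,25,23], [18,21]), ([19,27,23], [18,21]), ([18,27,23], [18,21]), ([29,27,23], [18,21]), ([19,29,23], [18,21]), ([18,29,23], [18,21]), ([27,21,25], [18,21]), ([29,21,25], [18,21]), ([27,20,25], [18,21]), ([29,20,25], [18,21]), ([19,27,25], [18,21]), ([18,27,25], [18,21]), ([29,27,25], [18,21]), ([19,29,25], [18,21]), ([18,29,25], [18,21]), ([21,29,25], [18,21]), ([20,29,25], [18,21]), ([29,19,27], [18,21]), ([29,18,27], [18,21]), ([19,29,27], [18,21]),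 ([18,29,27], [18,21]), ([21,29,27], [18,21]), ([20,29,27], [18,21]), ([27,21,25,23], [18,21]), ([29,21,25,23], [18,21]), ([27,20,25,23], [18,21]), ([29,20,25,23], [18,21]), ([19,27,25,23], [18,21]), ([18,27,25,23], [18,21]), ([29,27,25,23], [18,21]), ([19,29,25,23], [18,21]), ([18,29,25,23], [18,21]), ([21,29,25,23], [18,21]), ([20,29,25,23], [18,21]), ([29,19,27,23], [18,21]), ([29,18,27,23], [18,21]), ([19,29,27,23], [18,21]), ([18,29,27,23], [18,21]), ([21,29,27,23], [18,21]), ([20,29,27,23], [18,21]), ([19,27,21,25], [18,21]), ([18,27,21,25], [18,21]), ([29,27,21,25], [18,21]), ([19,29,21,25], [18,21]), ([21,29,21,25], [18,21]), ([19,27,20,25], [18,21]), ([18,27,20,25], [18,21]), ([29,27,20,25], [18,21]), ([29,19,27,25], [18,21]), ([29,18,27,25], [18,21]), ([19,29,27,25], [18,21]), ([18,29,27,25], [18,21]), ([21,29,27,25], [18,21]), ([20,29,27,25], [18,21]), ([27,19,29,25], [18,21]), ([27,18,29,25], [18,21]), ([19,29,19,27], [18,21]), ([21,29,19,27], [18,21]), ([19,27,21,25,23],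 [18,21]), ([18,27,21,25,23], [18,21]), ([29,27,21,25,23], [18,21]), ([19,29,21,25,23], [18,21]), ([21,29,21,25,23], [18,21]), ([19,27,20,25,23], [18,21]), ([18,27,20,25,23], [18,21]), ([29,27,20,25,23], [18,21]), ([29,19,27,25,23], [18,21]), ([29,18,27,25,23], [18,21]), ([19,29,27,25,23], [18,21]), ([18,29,27,25,23], [18,21]), ([21,29,27,25,23], [18,21]), ([20,29,27,25,23], [18,21]), ([27,19,29,25,23], [18,21]), ([27,18,29,25,23], [18,21]), ([19,29,19,27,23], [18,21]), ([21,29,19,27,23], [18,21]), ([29,19,27,21,25], [18,21]), ([29,18,27,21,25], [18,21]), ([19,29,27,21,25], [18,21]), ([18,29,27,21,25], [18,21]), ([21,29,27,21,25], [18,21]), ([27,19,29,21,25], [18,21]), ([29,19,27,20,25], [18,21]), ([29,18,27,20,25], [18,21]), ([19,29,27,20,25], [18,21]), ([18,29,27,20,25], [18,21]), ([19,29,19,27,25], [18,21]), ([21,29,19,27,25], [18,21]), ([18,29,18,27,25], [18,21]), ([20,29,18,27,25], [18,21]), ([20,19,29,27,25], [18,21]), ([21,18,29,27,25], [18,21]), ([29,19,27,21,25,23], [18,21]),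 ([29,18,27,21,25,23], [18,21]), ([19,29,27,21,25,23], [18,21]), ([18,29,27,21,25,23], [18,21]), ([21,29,27,21,25,23], [18,21]), ([27,19,29,21,25,23], [18,21]), ([29,19,27,20,25,23], [18,21]), ([29,18,27,20,25,23], [18,21]), ([19,29,27,20,25,23], [18,21]), ([18,29,27,20,25,23], [18,21]), ([19,29,19,27,25,23], [18,21]), ([21,29,19,27,25,23], [18,21]), ([18,29,18,27,25,23], [18,21]), ([20,29,18,27,25,23], [18,21]), ([20,19,29,27,25,23], [18,21]), ([21,18,29,27,25,23], [18,21])]

theorem p1 : allR (fun i => passB [[32, 32, 32]] C1 (wdD i)) 0 4608 = true := by decide +kernel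

end Cfsg.Co3G
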