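import Cfsg.Agent.Co3.A
import Cfsg.Agent.H6.MRep
import Cfsg.Agent.H6.More2
import Cfsg.Agent.H2.Symp

set_option autoImplicit false
set_option maxRecDepth 100000

namespace Cfsg.Co3G

open Cfsg.H6 Cfsg.H6.Co3.P Matrix

abbrev I6 : Type := Fin 3 ⊕ Fin 3

abbrev Sp : Type := Matrix.symplecticGroup (Fin 3) (ZMod 2)

theorem card_Sp : Nat.card Sp = 1451520 := by
  rw [H2.card_symplecticGroup, ZMod.card]
  decide +kernel

def pos : I6 → ℕ := Sum.elim (fun i => i) (fun i => i + 3)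

def dec (p : ℕ) (i : I6) : ZMod 2 := if p.testBit (pos i) then 1 else 0

def rows : List (List ℕ) := [[], [1,2,4,9,16,32], [1,2,4,9,16,32], [1,2,4,8,18,32], [1,2,4,8,18,32], [9,2,4,8,16,32], [9,2,4,8,16,32], [1,19,4,25,16,32], [1,19,4,25,16,32], [1,2,4,8,22,38], [1,2,4,8,22,38], [1,2,36,8,16,32], [1,2,36,8,16,32], [1,2,4,8,16,36], [1,2,4,8,16,36], [1,2,4,8,16,32]]

noncomputable def rwS (x : ℕ) : ℕ → ℕ := nthN (nthW rows x)

noncomputable def matS (x : ℕ) : Matrix I6 I6 (ZMod 2) := Matrix.of fun i => dec (rwS x (pos i))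

theorem hA : ∀ x < 16, 1 ≤ x → matEq (matS x * Matrix.J (Fin 3) (ZMod 2) * (matS x)ᵀ)
    (Matrix.J (Fin 3) (ZMod 2)) = true := by decide +kernel

def mkSp (A : Matrix I6 I6 (ZMod 2))
    (h : A * Matrix.J (Fin 3) (ZMod 2) * Aᵀ = Matrix.J (Fin 3) (ZMod 2)) : Sp := ⟨A, h⟩

noncomputable def evM (x : ℕ) : Sp :=
  if h : 1 ≤ x ∧ x < 16 then mkSp _ (eq_of_matEq (hA x h.2 h.1)) else 1

def mu : Sp →* Matrix I6 I6 (ZMod 2) where
  toFun := fun g => g.1
  map_one' := rfl
  map_mul' := fun _ _ => rfl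

theorem mu_inj : Function.Injective mu := fun (a b : Sp) (h : a.1 = b.1) => Subtype.ext h

noncomputable def imS (x p : ℕ) : ℕ := xv (rwS x) p 6

theorem hμ : ∀ x, 1 ≤ x → x < 16 → mu (evM x) = matS x := by
  intro x h1 h2
  unfold evM
  rw [dif_pos ⟨h1, h2⟩]
  rfl

theorem hrow : ∀ x < 16, 1 ≤ x → ∀ k < 6, dec (rwS x k) = dec (2 ^ k) ᵥ* matS x := by
  decide +kernel

theorem pos_lt : ∀ i, pos i < 6 := by decide

theorem hact : MAct matS dec imS 16 :=
  mact_xv (fun a b => funext fun i => by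
      simp only [dec, Nat.testBit_xor, Pi.add_apply]
      cases a.testBit (pos i) <;> cases b.testBit (pos i) <;> rfl)
    (fun p => funext fun i => by
      simp only [dec, Nat.testBit_mod_two_pow, pos_lt i, decide_true, Bool.true_and])
    fun x h1 h2 => hrow x h2 h1

def bS : List ℕ := [1, 2, 4, 8, 16, 32]

theorem oraM : Oracle evM imS 16 bS :=
  hact.oracle mu_inj hμ (e := fun i => 2 ^ pos i) (by decide +kernel) (by decide +kernel)

/-- The action on row vectors. -/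
def rV {G : Type*} [Group G] {ι F : Type*} [Fintype ι] [DecidableEq ι] [CommRing F]
    (μ : G →* Matrix ι ι F) : G →* Equiv.Perm (ι → F) where
  toFun g :=
    { toFun := fun v => v ᵥ* μ g⁻¹
      invFun := fun v => v ᵥ* μ g
      left_inv := fun v => by
        beta_reduce; rw [vecMul_vecMul, ← map_mul, inv_mul_cancel, map_one, vecMul_one]
      right_inv := fun v => by
        beta_reduce; rw [vecMul_vecMul, ← map_mul, mul_inv_cancel, map_one, vecMul_one] }
  map_one' := by ext v; simp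
  map_mul' x y := by ext v; simp [vecMul_vecMul]

theorem labS : Lab (rV mu) evM dec imS 64 16 := by
  refine ⟨fun x h1 h2 p hp => ⟨?_, ?_⟩, ?_⟩
  · rw [hact x h1 h2 p, ← hμ x h1 h2]
    rfl
  · have : ∀ x < 16, ∀ p < 64, imS x p < 64 := by decide +kernel
    exact this x h2 p hp
  · decide +kernel

theorem v5 : dvChk imS 64 16 32 [[13]] [] [32,36] (unp 1 (nat_lit 0x2000)) = true := by
  decide +kernel

theorem v4 : dvChk imS 64 16 4 [[11], [13]] [[13]] [4,32,36] (unp 2 (nat_lit 0x240100000400)) = true := by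
  decide +kernel

theorem v3 : dvChk imS 64 16 16 [[3], [9], [11], [13]] [[11], [13], [13]] [16,18,20,22,48,50,52,54] (unp 7 (nat_lit 0x3000000034030000160200001402000012010000100100001000)) = true := by
  decide +kernel

theorem v2 : dvChk imS 64 16 2 [[3], [9], [11], [13], [5,1,7,3,5,1,7,5,9,7,5,3,7,9,1,5,7,1]] [[3], [9], [11], [13], [11], [13], [13]] [2,4,6,16,18,20,22,32,34,36,38,48,50,52,54] (unp 14 (nat_lit 0x120000001401000014000000340200003203000030030000320000002004000024020000240100002003000026010000060200000204)) = true := by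
  decide +kernel

theorem v1 : dvChk imS 64 16 8 [[1], [3], [7], [9], [11], [13], [5,1,7,3,5,7,9,7,5,3,7,1,5]] [[3], [9], [11], [13], [5,1,7,3,5,1,7,5,9,7,5,3,7,9,1,5,7,1], [3], [9], [11], [13], [11], [13], [13]] [8,9,10,11,12,13,14,15,24,25,26,27,28,29,30,31,40,41,42,43,44,45,46,47,56,57,58,59,60,61,62,63] (unp 31 (nat_lit 0xb0000000e06000039010000380100000e0000002e0400002902000028020000280000002c0500002b0500002a0500002a0000002c0300001f0400001e0400001d0400001c0400000d0400000c0400000d0000001c0200001b0300001a0300001903000019010000180300001801000009020000080200000800)) = true := by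
  decide +kernel

theorem v0 : dvChk imS 64 16 1 [[1], [3], [5], [7], [9], [11], [13]] [[1], [3], [7], [9], [11], [13], [5,1,7,3,5,7,9,7,5,3,7,1,5], [3], [9], [11], [13], [5,1,7,3,5,1,7,5,9,7,5,3,7,9,1,5,7,1], [3], [9], [11], [13], [11], [13], [13]] [1,2,3,4,5,6,7,8,9,10,11,12,13,14,15,16,17,18,19,20,21,22,23,24,25,26,27,28,29,30,31,32,33,34,35,36,37,38,39,40,41,42,43,44,45,46,47,48,49,50,51,52,53,54,55,56,57,58,59,60,61,62,63] (unp 62 (nat_lit 0x380100003302000033010000320100002b000000290300002803000029000000140500000b00000003020000120300001201000014040000160100000e0500000f000000070300000702000027050000270300002702000024050000220300002404000020060000260400002102000025060000230600002303000023020000250400001f0500001e0500001d0500001c0500000d050000050500000d0200000c0500000d0000001c0300001a04000017050000060500001703000017020000150500001502000013040000130300001104000011010000190200001901000018040000180100000903000008030000090000000102)) = true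 := by
  decide +kernel


def X7 : List (List ℕ) := [[1], [3], [5], [7], [9], [11], [13]]

theorem gen_Sp : gen evM X7 = ⊤ := by
  have h : 1451520 ∣ Nat.card (gen evM X7) :=
    Dvd.dvd.trans (by exact (labS.dvd v0 (labS.dvd v1 (labS.dvd v2 (labS.dvd v3 (labS.dvd v4 (labS.dvd v5 (one_dvd _))))))))
      (Subgroup.card_dvd_of_le (gen_le_of_letChk (E := [[1], [3], [5], [7], [9], [11], [13], [1], [3], [7], [9], [11], [13], [5,1,7,3,5,7,9,7,5,3,7,1,5], [3], [9], [11], [13], [5,1,7,3,5,1,7,5,9,7,5,3,7,9,1,5,7,1], [3], [9], [11], [13], [11], [13], [13]]) (by decide +kernel)))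
  exact Subgroup.eq_top_of_le_card _ (card_Sp ▸ Nat.le_of_dvd Nat.card_pos h)

/-- The inverse table of the basic letters. -/
def nv0 : ℕ := 20006204624903677436624235583884034560

variable {C : Type*} [Group C]

/-- Letters from lifts of the transvections. -/
def ev0 (x : ℕ → C) (z : C) (l : ℕ) : C :=
  if l = 0 then 1 else if l < 15 then (if l % 2 = 1 then x (l / 2) else (x ((l - 1) / 2))⁻¹)
  else if l = 15 then z else 1

theorem ev0_a (x : ℕ → C) (z : C) {i : ℕ} (h : i < 7) : ev0 x z (2 * i + 1) = x i := by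
  unfold ev0
  rw [if_neg (by omega), if_pos (by omega), if_pos (by omega), show (2 * i + 1) / 2 = i by omega]

theorem ev0_b (x : ℕ → C) (z : C) {i : ℕ} (h : i < 7) : ev0 x z (2 * i + 2) = (x i)⁻¹ := by
  unfold ev0
  rw [if_neg (by omega), if_pos (by omega), if_neg (by omega),
    show (2 * i + 2 - 1) / 2 = i by omega]

theorem ev0_c (x : ℕ → C) (z : C) : ev0 x z 15 = z := rfl

theorem good_ev0 (x : ℕ → C) {z : C} (hz : z * z = 1) : Good (ev0 x z) nv0 := by
  refine ⟨rfl, fun l => ?_⟩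
  by_cases h : l < 16
  · have e : ∀ l < 16, (l = 0 ∧ invL nv0 l = 0) ∨ (l = 15 ∧ invL nv0 l = 15) ∨
        ∃ i < 7, (l = 2 * i + 1 ∧ invL nv0 l = 2 * i + 2) ∨ (l = 2 * i + 2 ∧ invL nv0 l = 2 * i + 1) := by
      decide +kernel
    rcases e l h with ⟨rfl, e⟩ | ⟨rfl, e⟩ | ⟨i, hi, ⟨rfl, e⟩ | ⟨rfl, e⟩⟩
    · rw [e]; simp [ev0]
    · rw [e, ev0_c, inv_eq_of_mul_eq_one_right hz]
    · rw [e, ev0_a x z hi, ev0_b x z hi]
    · rw [e, ev0_a x z hi, ev0_b x z hi, inv_inv]
  · rw [invL_eq_zero (n := 16) (by decide +kernel) (by omega)]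
    unfold ev0
    rw [if_pos rfl, if_neg (by omega), if_neg (by omega), if_neg (by omega), inv_one]

def edges : List (ℕ × ℕ) := [(0, 2), (2, 3), (1, 3), (3, 4), (4, 5), (5, 6)]

def pairs : List (ℕ × ℕ × List ℕ) := [(0, 1, []), (0, 3, [3,7]), (0, 4, [7,3,9,7]), (0, 5, [9,7,3,11,9,7]), (0, 6, [11,9,7,3,13,11,9,7]), (1, 2, [7,3,5,1,7,5]), (1, 4, [11,9,7,3,5,1,7,5,9,7,3,11,9,7]), (1, 5, [7,3,5,1,7,5,9,7,3,11,9,7]), (1, 6, [7,3,5,1,7,5,11,9,7,3,13,11,9,7]), (2, 4, [1,5,7,3,9,7]), (2, 5, [1,5,9,7,3,11,9,7]), (2, 6, [1,5,11,9,7,3,13,11,9,7]), (3, 5, [5,1,7,5,9,7,3,11,9,7]), (3, 6, [5,1,7,5,11,9,7,3,13,11,9,7]), (4, 6, [7,5,1,9,7,5,11,9,7,3,13,11,9,7])]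

def R0 : List (List ℕ) := ((List.range 7).map fun i => [2 * i + 1, 2 * i + 1, 15]) ++
  (edges.map fun e => [2 * e.1 + 1, 2 * e.2 + 1, 2 * e.1 + 1, 2 * e.2 + 2, 2 * e.1 + 2, 2 * e.2 + 2]) ++
  (pairs.map fun e => [2 * e.1 + 1, 2 * e.2.1 + 1, 2 * e.1 + 2, 2 * e.2.1 + 2, 15]) ++
  [rp 9 [1, 3, 5, 7, 9, 11, 13]]

def sg0 : List (List ℕ) := [[], [1], [2], [3], [4], [5], [6], [7], [8], [9], [10], [11], [12], [13], [14], [15], [3,9,13], [14,10,4], [1,6], [5,2], [5,9,11,9,7,3,5,1,7,5,13,11,9,7,3,5,1,7,5,9,8], [7,10,6,8,2,6,4,8,10,12,14,6,8,2,6,4,8,10,12,10,6], [1,11,9,13,11], [12,14,10,12,2], [9,13], [14,10], [1,5,7,3,5,7,9,7,3,5,1,7,5,11,9,7,3,5,7,9,11,13,11,9,7,3,5,7,9,11], [12,10,8,6,4,8,10,12,14,12,10,8,6,4,8,10,12,6,8,2,6,4,8,10,8,6,4,8,6,2], [1,5,7,3,9,7,11,9,7,3,5,7,9,11,13,11,9,7,3,5,1,7,5,9,7,3,11,9,7,6], [5,8,10,12,4,8,10,6,8,2,6,4,8,10,12,14,12,10,8,6,4,8,10,12,8,10,4,8,6,2], [3,9,11,9,13,11,10], [9,12,14,10,12,10,4]]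

theorem lift0 {x : ℕ → C} {z : C} (hz : z * z = 1) (h1 : ∀ i < 7, x i * x i = z)
    (h2 : ∀ e ∈ edges, x e.1 * x e.2 * x e.1 = x e.2 * x e.1 * x e.2)
    (h3 : ∀ e ∈ pairs, x e.1 * x e.2.1 * (x e.1)⁻¹ * (x e.2.1)⁻¹ = z)
    (h4 : evL (ev0 x 1) [1, 3, 5, 7, 9, 11, 13] ^ 9 = 1) :
    ∃ θ : Grp →* C, θ (ev 15) = z ∧ ∀ i < 7, θ (ev (2 * i + 1)) = x i := by
  have hR : Rels (ev0 x z) R0 := by
    refine Rels.append (Rels.append (Rels.append (fun w hw => ?_) fun w hw => ?_) fun w hw => ?_)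
      (Rels.cons ?_ (by simp [Rels]))
    · obtain ⟨i, hi, rfl⟩ := List.mem_map.mp hw
      have := List.mem_range.mp hi
      simp only [evL_cons, evL_nil, ev0_a x z this, ev0_c, mul_one]
      rw [← mul_assoc, h1 i this, hz]
    · obtain ⟨e, he, rfl⟩ := List.mem_map.mp hw
      have : e.1 < 7 ∧ e.2 < 7 := by revert e; decide
      simp only [evL_cons, evL_nil, ev0_a x z this.1, ev0_b x z this.1, ev0_a x z this.2,
        ev0_b x z this.2, mul_one, ← mul_assoc]
      rw [h2 e he]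
      group
    · obtain ⟨e, he, rfl⟩ := List.mem_map.mp hw
      have : e.1 < 7 ∧ e.2.1 < 7 := by revert e; decide
      simp only [evL_cons, evL_nil, ev0_a x z this.1, ev0_b x z this.1, ev0_a x z this.2,
        ev0_b x z this.2, mul_one, ← mul_assoc, ev0_c]
      rw [h3 e he, hz]
    · rw [evL_rp]
      exact h4
  obtain ⟨θ, hθ⟩ := lift (good_evS (σ := sg0) (good_ev0 x hz) hR (by decide +kernel))
    (rels_evS_cyc (good_ev0 x hz) hR (by decide +kernel))
  have e : ∀ l < 16, 1 ≤ l → sg0.getD l [] = [l] := by decide +kernel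
  refine ⟨θ, ?_, fun i hi => ?_⟩
  · rw [hθ, evS, e 15 (by norm_num) (by norm_num), evL_singleton, ev0_c]
  · rw [hθ, evS, e _ (by omega) (by omega), evL_singleton, ev0_a x z hi]

variable {π : C →* Sp} {d : C}

/-- A central extension with kernel of order at most two. -/
structure Dc (π : C →* Sp) (d : C) : Prop where
  surj : Function.Surjective π
  sq : d * d = 1
  cen : ∀ x, x * d = d * x
  ker : ∀ x, π x = 1 → x = 1 ∨ x = d
  map : π d = 1

theorem Dc.eq (h : Dc π d) {x y : C} (e : π x = π y) : x = y ∨ x = y * d := by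
  rcases h.ker (y⁻¹ * x) (by rw [map_mul, map_inv, e, inv_mul_cancel]) with c | c
  · exact Or.inl (inv_mul_eq_one.mp c).symm
  · exact Or.inr (by rw [← c, mul_inv_cancel_left])

theorem Dc.cenk (h : Dc π d) {z : C} (e : π z = 1) (x : C) : x * z = z * x := by
  rcases h.ker z e with rfl | rfl
  · simp
  · exact h.cen x

theorem Dc.sqk (h : Dc π d) {z : C} (e : π z = 1) : z * z = 1 := by
  rcases h.ker z e with rfl | rfl
  · simp
  · exact h.sq

theorem Dc.sq_eq (h : Dc π d) {x y : C} (e : π x = π y) : x * x = y * y := by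
  rcases h.eq e with rfl | rfl
  · rfl
  · rw [mul_assoc, ← mul_assoc d, ← h.cen, mul_assoc, h.sq, mul_one]

theorem Dc.cm_eq (h : Dc π d) {x y x' y' : C} (e : π x = π x') (e' : π y = π y') :
    x * y * x⁻¹ * y⁻¹ = x' * y' * x'⁻¹ * y'⁻¹ := by
  have a : ∀ u v : C, u * d * v * (u * d)⁻¹ = u * v * u⁻¹ := fun u v => by
    rw [mul_assoc u d, ← h.cen v]; group
  have b : ∀ u v w : C, u * (v * d) * w * (v * d)⁻¹ = u * v * w * v⁻¹ := fun u v w => by
    rw [← mul_assoc u, mul_assoc _ d, ← h.cen w]; group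
  rcases h.eq e with rfl | rfl <;> rcases h.eq e' with rfl | rfl
  · rfl
  · rw [b]
  · rw [a]
  · rw [a, b]

theorem Dc.braid (h : Dc π d) (x : C) {q : Sp} (e : π x * q * π x = q * π x * q) :
    ∃ y, π y = q ∧ x * y * x = y * x * y := by
  obtain ⟨y, rfl⟩ := h.surj q
  rcases h.eq (x := x * y * x) (y := y * x * y) (by simpa only [map_mul] using e) with c | c
  · exact ⟨y, rfl, c⟩
  · refine ⟨y * d, by rw [map_mul, h.map, mul_one], ?_⟩
    calc x * (y * d) * x = x * y * (d * x) := by group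
      _ = y * x * y * (d * d) := by rw [← h.cen, ← mul_assoc, c]; group
      _ = y * (x * (y * d) * d) := by group
      _ = _ := by rw [h.cen (x * (y * d))]; group

theorem br {i j : ℕ} (h : fixB imS 16 bS [i, j, i, j, i, j] = true)
    (hi : fixB imS 16 bS [i, i] = true) (hj : fixB imS 16 bS [j, j] = true) :
    evM i * evM j * evM i = evM j * evM i * evM j := by
  have a := oraM _ h
  have b := oraM _ hi
  have c := oraM _ hj
  simp only [evL_cons, evL_nil, mul_one] at a b c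
  calc evM i * evM j * evM i = evM i * evM j * evM i * (evM j * (evM i * evM i) * evM j) := by
        rw [b, mul_one, c, mul_one]
    _ = evM i * (evM j * (evM i * (evM j * (evM i * evM j)))) * (evM j)⁻¹ * evM i * evM j := by group
    _ = _ := by rw [a, one_mul, inv_eq_of_mul_eq_one_right c]

theorem map_ev0 {x : ℕ → C} (hx : ∀ i < 7, π (x i) = evM (2 * i + 1)) {w : List ℕ}
    (hw : inR 15 w = true) : π (evL (ev0 x 1) w) = evL evM w := by
  rw [map_evL]
  refine evL_congr fun l hl => ?_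
  have := inR_spec hw l hl
  have e : ∀ l < 15, 1 ≤ l → ∃ i < 7, l = 2 * i + 1 ∨
      (l = 2 * i + 2 ∧ fixB imS 16 bS [2 * i + 1, 2 * i + 2] = true) := by decide +kernel
  obtain ⟨i, hi, rfl | ⟨rfl, c⟩⟩ := e l this.2 this.1
  · rw [ev0_a x 1 hi, hx i hi]
  · have := oraM _ c
    simp only [evL_cons, evL_nil, mul_one] at this
    rw [ev0_b x 1 hi, map_inv, hx i hi, inv_eq_of_mul_eq_one_right this]

theorem Dc.lifts (h : Dc π d) : ∃ x : ℕ → C, (∀ i < 7, π (x i) = evM (2 * i + 1)) ∧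
    (∀ e ∈ edges, x e.1 * x e.2 * x e.1 = x e.2 * x e.1 * x e.2) ∧
    evL (ev0 x 1) [1, 3, 5, 7, 9, 11, 13] ^ 9 = 1 := by
  obtain ⟨x0, e0⟩ := h.surj (evM 1)
  obtain ⟨x2, e2, b2⟩ := h.braid x0 (q := evM 5) (e0 ▸ br (by decide +kernel) (by decide +kernel)
    (by decide +kernel))
  obtain ⟨x3, e3, b3⟩ := h.braid x2 (q := evM 7) (e2 ▸ br (by decide +kernel) (by decide +kernel)
    (by decide +kernel))
  obtain ⟨x1, e1, b1⟩ := h.braid x3 (q := evM 3) (e3 ▸ br (by decide +kernel) (by decide +kernel)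
    (by decide +kernel))
  obtain ⟨x4, e4, b4⟩ := h.braid x3 (q := evM 9) (e3 ▸ br (by decide +kernel) (by decide +kernel)
    (by decide +kernel))
  obtain ⟨x5, e5, b5⟩ := h.braid x4 (q := evM 11) (e4 ▸ br (by decide +kernel) (by decide +kernel)
    (by decide +kernel))
  obtain ⟨x6, e6, b6⟩ := h.braid x5 (q := evM 13) (e5 ▸ br (by decide +kernel) (by decide +kernel)
    (by decide +kernel))
  obtain ⟨x, hx, hb⟩ : ∃ x : ℕ → C, (∀ i < 7, π (x i) = evM (2 * i + 1)) ∧
      ∀ e ∈ edges, x e.1 * x e.2 * x e.1 = x e.2 * x e.1 * x e.2 := by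
    refine ⟨fun i => [x0, x1, x2, x3, x4, x5, x6].getD i 1, fun i hi => ?_, ?_⟩
    · interval_cases i
      exacts [e0, e1, e2, e3, e4, e5, e6]
    · simp only [edges, List.forall_mem_cons]
      exact ⟨b2, b3, b1.symm, b4, b5, b6, by simp⟩
  have h9 : π (evL (ev0 x 1) [1, 3, 5, 7, 9, 11, 13] ^ 9) = 1 := by
    rw [← evL_rp, map_ev0 hx (by decide +kernel)]
    exact oraM _ (by decide +kernel)
  rcases h.ker _ h9 with c | c
  · exact ⟨x, hx, hb, c⟩
  · have cd : ∀ u : C, Commute u d := h.cen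
    have pm : ∀ l : List C, (l.map (· * d)).prod = l.prod * d ^ l.length := fun l => by
      induction l with
      | nil => simp
      | cons u l ih =>
        rw [List.map_cons, List.prod_cons, ih, List.prod_cons, List.length_cons, pow_succ',
          mul_assoc u d, ← mul_assoc d, ← h.cen]
        simp only [mul_assoc]
    refine ⟨fun i => x i * d, fun i hi => by rw [map_mul, h.map, mul_one, hx i hi],
      fun e he => ?_, ?_⟩
    · have a : ∀ u v : C, u * d * (v * d) * (u * d) = u * v * u * d ^ 3 := fun u v => by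
        simpa [mul_assoc] using pm [u, v, u]
      rw [a, a, hb e he]
    · have a : evL (ev0 (fun i => x i * d) 1) [1, 3, 5, 7, 9, 11, 13] =
          evL (ev0 x 1) [1, 3, 5, 7, 9, 11, 13] * d ^ 7 :=
        pm [x 0, x 1, x 2, x 3, x 4, x 5, x 6]
      rw [a, ((cd _).pow_right 7).mul_pow, c, ← pow_mul, ← pow_succ',
        show 7 * 9 + 1 = 2 * 32 from rfl, pow_mul, pow_two, h.sq, one_pow]

theorem Dc.hom (h : Dc π d) : ∃ θ : Grp →* C, (θ (ev 15) = 1 ∨ θ (ev 15) = d) ∧
    Function.Surjective (π.comp θ) := by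
  obtain ⟨x, hx, hb, h9⟩ := h.lifts
  have k1 : ∀ i < 7, π (x i * x i) = 1 := fun i hi => by
    have e : ∀ i < 7, fixB imS 16 bS [2 * i + 1, 2 * i + 1] = true := by decide +kernel
    have := oraM _ (e i hi)
    simpa only [evL_cons, evL_nil, mul_one, map_mul, hx i hi] using this
  have s1 : ∀ e ∈ edges, x e.1 * x e.1 = x e.2 * x e.2 := fun e he => by
    have l : e.1 < 7 := by revert e; decide
    have c := h.cenk (k1 _ l) (x e.1 * x e.2)
    have b : x e.2 = x e.1 * x e.2 * x e.1 * (x e.1 * x e.2)⁻¹ := by rw [hb e he]; group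
    calc x e.1 * x e.1 = x e.1 * x e.2 * (x e.1 * x e.1) * (x e.1 * x e.2)⁻¹ := by rw [c]; group
      _ = (x e.1 * x e.2 * x e.1 * (x e.1 * x e.2)⁻¹) * (x e.1 * x e.2 * x e.1 * (x e.1 * x e.2)⁻¹) := by
        group
      _ = _ := by rw [← b]
  simp only [edges, List.forall_mem_cons] at s1
  obtain ⟨a1, a2, a3, a4, a5, a6, -⟩ := s1
  have h1 : ∀ i < 7, x i * x i = x 0 * x 0 := fun i hi => by
    interval_cases i
    · rfl
    · rw [a3, ← a2, ← a1]
    · rw [← a1]
    · rw [← a2, ← a1]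
    · rw [← a4, ← a2, ← a1]
    · rw [← a5, ← a4, ← a2, ← a1]
    · rw [← a6, ← a5, ← a4, ← a2, ← a1]
  have hg := good_ev0 x (z := 1) (mul_one 1)
  have cj : ∀ {u v w : List ℕ}, (inR 15 (invW nv0 w ++ u ++ w) && inR 15 v &&
      fixB imS 16 bS (invW nv0 w ++ u ++ w ++ invW nv0 v)) = true →
      π ((evL (ev0 x 1) w)⁻¹ * evL (ev0 x 1) u * evL (ev0 x 1) w) = π (evL (ev0 x 1) v) :=
    fun {u v w} c => by
      simp only [Bool.and_eq_true] at c
      have gM : Good evM nv0 :=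
        oraM.good (dif_neg (by omega)) (fun l hl => dif_neg (by omega)) (by decide +kernel)
      have := oraM _ c.2
      rw [evL_append, evL_invW gM, mul_inv_eq_one] at this
      rw [← evL_invW hg, ← evL_append, ← evL_append, map_ev0 hx c.1.1, map_ev0 hx c.1.2, this]
  have k2 : π (x 0 * x 1 * (x 0)⁻¹ * (x 1)⁻¹) = 1 := by
    have := map_ev0 hx (w := [1, 3, 2, 4]) (by decide)
    rw [oraM _ (by decide +kernel)] at this
    simpa only [mul_assoc, mul_one] using
      (show π (x 0 * (x 1 * ((x 0)⁻¹ * ((x 1)⁻¹ * 1)))) = 1 from this)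
  have h3 : ∀ e ∈ pairs, x e.1 * x e.2.1 * (x e.1)⁻¹ * (x e.2.1)⁻¹ =
      x 0 * x 1 * (x 0)⁻¹ * (x 1)⁻¹ := fun e he => by
    have l : e.1 < 7 ∧ e.2.1 < 7 := by revert e; decide
    have c1 := cj (u := [2 * e.1 + 1]) (v := [2 * 0 + 1]) (w := e.2.2) (by revert e; decide +kernel)
    have c2 := cj (u := [2 * e.2.1 + 1]) (v := [2 * 1 + 1]) (w := e.2.2)
      (by clear c1; revert e; decide +kernel)
    rw [evL_singleton, evL_singleton, ev0_a x 1 l.1, ev0_a x 1 (by norm_num)] at c1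
    rw [evL_singleton, evL_singleton, ev0_a x 1 l.2, ev0_a x 1 (by norm_num)] at c2
    have c3 := h.cm_eq c1 c2
    have c4 := h.cenk k2 (evL (ev0 x 1) e.2.2)
    rw [← mul_inv_eq_iff_eq_mul, ← c3] at c4
    rw [← c3, ← c4]
    group
  generalize x 0 * x 1 * (x 0)⁻¹ * (x 1)⁻¹ = z2 at k2 h3
  have k0 := k1 0 (by norm_num)
  generalize x 0 * x 0 = z1 at k0 h1
  have sw : ∀ i j, (i, j) ∈ pairs.map (fun e => (e.1, e.2.1)) → ∀ u, x j * (x i * u) =
      z2 * (x i * (x j * u)) := fun i j hij u => by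
    obtain ⟨e, he, c⟩ := List.mem_map.mp hij
    obtain ⟨rfl, rfl⟩ := Prod.mk.inj c
    have a := h3 e he
    rw [mul_inv_eq_iff_eq_mul, mul_inv_eq_iff_eq_mul] at a
    rw [← mul_assoc (x e.1), a, ← mul_assoc z2, ← mul_assoc z2, ← mul_assoc z2, h.sqk k2]
    group
  have mv : ∀ {z : C}, π z = 1 → ∀ u v, u * (z * v) = z * (u * v) := fun hz u v => by
    rw [← mul_assoc, h.cenk hz u, mul_assoc]
  have sq : ∀ i < 7, ∀ u, x i * (x i * u) = z1 * u := fun i hi u => by rw [← mul_assoc, h1 i hi]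
  have zz : ∀ {z : C}, π z = 1 → ∀ u, z * (z * u) = u := fun hz u => by
    rw [← mul_assoc, h.sqk hz, one_mul]
  have e4 : x 1 * (x 2 * (x 4 * x 6)) * (x 1 * (x 2 * (x 4 * x 6))) = 1 := by
    have : x 1 * (x 2 * (x 4 * (x 6 * (x 1 * (x 2 * (x 4 * (x 6 * 1))))))) = 1 := by
      simp only [sw 1 6 (by decide), sw 1 4 (by decide), sw 1 2 (by decide), sw 2 6 (by decide),
        sw 2 4 (by decide), sw 4 6 (by decide), mv k2 (x _), mv k0 (x _), mv k0 z2, zz k0, zz k2,
        sq 1 (by norm_num), sq 2 (by norm_num), sq 4 (by norm_num), sq 6 (by norm_num)]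
    simpa only [mul_assoc, mul_one] using this
  have e3 : x 0 * (x 1 * x 4) * (x 0 * (x 1 * x 4)) = z1 * z2 := by
    have : x 0 * (x 1 * (x 4 * (x 0 * (x 1 * (x 4 * 1))))) = z1 * (z2 * 1) := by
      simp only [sw 0 4 (by decide), sw 0 1 (by decide), sw 1 4 (by decide), mv k2 (x _),
        mv k0 (x _), mv k0 z2, zz k0, zz k2, sq 0 (by norm_num), sq 1 (by norm_num),
        sq 4 (by norm_num)]
    simpa only [mul_assoc, mul_one] using this
  have e5 := h.sq_eq (cj (u := [3, 5, 9, 13]) (v := [1, 3, 9]) (w := [1,7,3,5,1,7,5,9,11,9,7,3,5,1,7,5,9,7,3,11,9,7,5,13,11,9,7,5]) (by decide +kernel))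
  have f4 : evL (ev0 x 1) [3, 5, 9, 13] = x 1 * (x 2 * (x 4 * x 6)) := by
    change x 1 * (x 2 * (x 4 * (x 6 * 1))) = _
    rw [mul_one]
  have f3 : evL (ev0 x 1) [1, 3, 9] = x 0 * (x 1 * x 4) := by
    change x 0 * (x 1 * (x 4 * 1)) = _
    rw [mul_one]
  have e6 : z2 = z1 := by
    rw [f4, f3, e3] at e5
    have : z1 * z2 = 1 := by
      rw [← e5]
      calc _ = (evL (ev0 x 1) [1,7,3,5,1,7,5,9,11,9,7,3,5,1,7,5,9,7,3,11,9,7,5,13,11,9,7,5])⁻¹ * (x 1 * (x 2 * (x 4 * x 6)) * (x 1 * (x 2 * (x 4 * x 6)))) *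
          evL (ev0 x 1) [1,7,3,5,1,7,5,9,11,9,7,3,5,1,7,5,9,7,3,11,9,7,5,13,11,9,7,5] := by group
        _ = 1 := by rw [e4]; group
    rw [← inv_eq_of_mul_eq_one_right this, inv_eq_of_mul_eq_one_right (h.sqk k0)]
  subst e6
  obtain ⟨θ, t1, t2⟩ := lift0 (h.sqk k0) h1 hb h3 h9
  refine ⟨θ, t1 ▸ h.ker _ k0, MonoidHom.range_eq_top.mp (top_le_iff.mp (gen_Sp ▸ gen_le fun w hw => ?_))⟩
  have e : ∀ w ∈ X7, ∃ i < 7, w = [2 * i + 1] := by decide
  obtain ⟨i, hi, rfl⟩ := e w hw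
  exact ⟨ev (2 * i + 1), by rw [MonoidHom.comp_apply, t2 i hi, hx i hi, evL_singleton]⟩

/-- A nonsplit double cover of the symplectic group is the model. -/
theorem pin [Finite C] (hC : IsNonsplitDoubleCover C Sp) {d : C} (hd : d ∈ Subgroup.center C)
    (h1 : d ≠ 1) : ∃ θ : Grp →* C, Function.Bijective θ ∧ θ (ev 15) = d := by
  obtain ⟨hz, ⟨e⟩, hn⟩ := hC
  obtain ⟨y, -, hy⟩ := (Nat.card_eq_two_iff' (1 : Subgroup.center C)).mp hz
  have hk : ∀ x ∈ Subgroup.center C, x = 1 ∨ x = d := fun x hx => by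
    by_cases c : x = 1
    · exact Or.inl c
    · have a := hy ⟨x, hx⟩ fun e => c (congrArg Subtype.val e)
      have b := hy ⟨d, hd⟩ fun e => h1 (congrArg Subtype.val e)
      exact Or.inr (congrArg Subtype.val (a.trans b.symm))
  let π : C →* Sp := e.toMonoidHom.comp (QuotientGroup.mk' _)
  have hπ : ∀ x, π x = 1 ↔ x ∈ Subgroup.center C := fun x => by
    simp [π, QuotientGroup.eq_one_iff]
  have h : Dc π d := ⟨e.surjective.comp (QuotientGroup.mk'_surjective _),
    (hk _ (mul_mem hd hd)).resolve_right fun c => h1 (by simpa using c),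
    Subgroup.mem_center_iff.mp hd, fun x hx => hk x ((hπ x).mp hx), (hπ d).mpr hd⟩
  have hc : Nat.card C = 2903040 := by
    rw [Subgroup.card_eq_card_quotient_mul_card_subgroup (Subgroup.center C), hz,
      Nat.card_congr e.toEquiv, card_Sp]
  obtain ⟨θ, ht, hs⟩ := h.hom
  have cov : ∀ x, x ∈ θ.range ∨ x * d ∈ θ.range := fun x => by
    obtain ⟨p, hp⟩ := hs (π x)
    rcases h.eq (x := θ p) (y := x) hp with c | c
    · exact Or.inl ⟨p, c⟩
    · exact Or.inr ⟨p, c⟩
  have bij : d ∈ θ.range → Function.Bijective θ := fun hm => by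
    have := finite
    refine (Nat.bijective_iff_surjective_and_card θ).mpr ⟨fun x => ?_, by rw [card, hc]⟩
    rcases cov x with c | c
    · exact c
    · exact (mul_mem_cancel_right hm).mp c
  rcases ht with c | c
  · exfalso
    by_cases hm : d ∈ θ.range
    · refine ne1_spec (w := [15]) (by decide +kernel) ((bij hm).1 ?_)
      rw [evL_singleton, c, map_one]
    · refine hn θ.range (Subgroup.isComplement'_of_disjoint_and_mul_eq_univ ?_ ?_)
      · refine Subgroup.disjoint_def.mpr fun {x} a b => (hk x a).resolve_right ?_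
        rintro rfl
        exact hm b
      · refine Set.eq_univ_of_forall fun x => ?_
        rcases cov x with c | c
        · exact ⟨1, one_mem _, x, c, one_mul x⟩
        · refine ⟨d, hd, x * d, c, ?_⟩
          change d * (x * d) = x
          rw [h.cen x, ← mul_assoc, h.sq, one_mul]
  · exact ⟨θ, bij ⟨_, c⟩, c⟩

end Cfsg.Co3G
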